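import Cfsg.Agent.H10.CoreBal
import Cfsg.Agent.H10.Local2
import Cfsg.Agent.H10.Sig1
import Cfsg.Agent.H11.PCon
import Cfsg.Agent.H11.Three
import Cfsg.Agent.H11.Sig
import Cfsg.Agent.H9.Four
import Cfsg.Agent.H24.Base4

/-!
# `O_{p',p}` of a subgroup; four-groups inside eight-groups
-/

set_option autoImplicit false

namespace Cfsg.Agent.H10

open Subgroup
open scoped Pointwise commutatorElement

variable {G : Type*} [Group G] {p : ℕ} {H K Q S T Y Z U V E A : Subgroup G} {s t z a b : G}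

/-- `O_{p',p}(H)` inside `G`. -/
def PPOf (p : ℕ) (H : Subgroup G) : Subgroup G := (pPrimePCore p H).map H.subtype

theorem PPOf_eq_pre : PPOf p H = pre (QuotientGroup.mk' (pPrimeCore p H)) (pCore p _) := rfl

theorem PPOf_le : PPOf p H ≤ H := map_subtype_le _

theorem le_normalizer_PPOf : H ≤ normalizer (PPOf p H : Set G) :=
  haveI : (pPrimePCore p H).Normal := Normal.comap inferInstance _
  le_normalizer_map_subtype _

theorem OqOf_le_PPOf : OqOf p H ≤ PPOf p H := by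
  rw [PPOf_eq_pre, ← kr_mk'_pPrimeCore]; exact kr_le_pre

variable [Finite G] [hp : Fact p.Prime]

theorem im_eq_pCore_of_sylow (hQ : H1.IsSylowIn p Q (PPOf p H)) :
    im (QuotientGroup.mk' (pPrimeCore p H)) Q = pCore p _ := by
  have h1 : H1.IsSylowIn p (Q.subgroupOf H) (pPrimePCore p H) := by
    refine ⟨?_, isPGroup_subgroupOf hQ.isPGroup _, ?_⟩
    · rw [← map_subtype_subgroupOf (pPrimePCore p H)]; exact comap_mono hQ.le
    · rw [← map_subtype_subgroupOf (pPrimePCore p H), relIndex_subgroupOf (map_subtype_le _)]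
      exact hQ.not_dvd
  exact H9.map_eq_pCore_of_sylowIn ⟨h1.1, h1.2, h1.3⟩

theorem PPOf_le_sup (hQ : H1.IsSylowIn p Q (PPOf p H)) : PPOf p H ≤ Q ⊔ OqOf p H := by
  rw [← kr_mk'_pPrimeCore, ← pre_im (hQ.le.trans PPOf_le), im_eq_pCore_of_sylow hQ]
  exact le_rfl

theorem le_OqOf_of_le_PPOf (h : Y ≤ PPOf p H) (hc : (Nat.card Y).Coprime p) : Y ≤ OqOf p H := by
  obtain ⟨Q, hQ⟩ := H1.exists_isSylowIn p (PPOf p H)
  exact le_of_le_sup_isPGroup hQ.isPGroup
    (le_normalizer_OqOf (le_normalizer_of_le (hQ.le.trans PPOf_le))) (h.trans (PPOf_le_sup hQ)) hc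

/-- In a `p`-constrained group, an element acting trivially on a Sylow subgroup of `O_{p',p}`
modulo a central `p`-subgroup lies in `O_{p',p}`. -/
theorem mem_PPOf_of_commutator (h : PLayOf p H = ⊥) (hQ : H1.IsSylowIn p Q (PPOf p H))
    (hZ : IsPGroup p Z) (hZH : Z ≤ H) (hc : H ≤ centralizer (Z : Set G)) (hs : s ∈ H)
    (hsq : ∀ q ∈ Q, s * q * s⁻¹ * q⁻¹ ∈ Z) : s ∈ PPOf p H := by
  set f := QuotientGroup.mk' (pPrimeCore p H) with hf
  have hfs : Function.Surjective f := QuotientGroup.mk'_surjective _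
  have hC : centralizer (pCore p (H ⧸ pPrimeCore p H) : Set (H ⧸ pPrimeCore p H)) ≤ pCore p _ :=
    fstar_eq_pCore_iff.1 (fstar_eq_pCore_iff'.2
      ⟨pLayer_eq_bot_iff.1 (PLayOf_eq_bot_iff'.1 h), pPrimeCore_quotient_pPrimeCore p H⟩)
  have hZc : ⊤ ≤ centralizer (im f Z : Set (H ⧸ pPrimeCore p H)) := by
    rw [← im_self_of_surjective hfs]; exact im_le_centralizer hZH hc
  have hZn : ∀ U, U ≤ normalizer (im f Z : Set (H ⧸ pPrimeCore p H)) := fun U =>
    le_top.trans (hZc.trans (centralizer_le_normalizer _))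
  set K := cMod (pCore p (H ⧸ pPrimeCore p H)) (im f Z) with hK
  haveI : K.Normal := normal_of_normalizer_top
    (le_normalizer_cMod le_normalizer_of_normal (hZn _))
  have hKp : IsPGroup p K := by
    refine H9.isPGroup_of_forall_coprime fun g hg hcop => ?_
    have h1 : zpowers g ≤ centralizer (pCore p (H ⧸ pPrimeCore p H) : Set _) := by
      refine H1.le_centralizer_of_commutator_le (N := im f Z) ?_ ?_ (le_top.trans hZc)
      · rw [Nat.card_zpowers]
        exact (coprime_card_of_isPGroup (isPGroup_im hZ) hcop).symm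
      · rw [commutator_comm]
        exact (commutator_mono (zpowers_le.2 hg) le_rfl).trans commutator_cMod_le
    have h2 := eq_bot_of_isPGroup_of_coprime ((pCore_isPGroup' p _).to_le (h1.trans hC))
      (by rwa [Nat.card_zpowers])
    exact zpowers_eq_bot.1 h2
  rw [PPOf_eq_pre, mem_pre hs]
  refine le_pCore hKp (mem_cMod.2 ⟨hZn ⊤ trivial, fun k hk => ?_⟩)
  rw [← im_eq_pCore_of_sylow hQ] at hk
  obtain ⟨q, hqH, hq, rfl⟩ := mem_im_iff.1 hk
  have := mem_im (f := f) (hZH (hsq q hq)) (hsq q hq)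
  rw [← map_inv, ← map_inv, ← map_mul, ← map_mul, ← map_mul]
  exact this

theorem mem_PPOf_of_centralizes (h : PLayOf p H = ⊥) (hQ : H1.IsSylowIn p Q (PPOf p H))
    (hs : s ∈ H) (hsq : s ∈ centralizer (Q : Set G)) : s ∈ PPOf p H :=
  mem_PPOf_of_commutator h hQ IsPGroup.of_bot bot_le
    (le_centralizer_iff.1 bot_le) hs fun q hq => by
      rw [← hsq q hq]; simp

/-! ### Eight-groups -/

/-- An elementary abelian 2-group of order at least 8. -/
structure E8 (E : Subgroup G) : Prop where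
  sq : ∀ e ∈ E, e * e = 1
  card : 8 ≤ Nat.card E

omit [Finite G] in
theorem E8.ea (h : E8 E) : IsElementaryAbelian 2 E :=
  ⟨isMulCommutative_of_forall fun _ hx _ hy => H11.comm_of_sq_eq_one h.sq hx hy,
    fun x hx => by rw [pow_two, h.sq x hx]⟩

omit [Finite G] in
theorem E8.isPGroup (h : E8 E) : IsPGroup 2 E := isPGroup_of_elementaryAbelian h.ea

omit [Finite G] in
theorem E8.comm (h : E8 E) (ha : a ∈ E) (hb : b ∈ E) : a * b = b * a :=
  H11.comm_of_sq_eq_one h.sq ha hb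

omit [Finite G] in
theorem E8.cj (h : E8 E) (g : G) : E8 (E.map (MulAut.conj g).toMonoidHom) :=
  ⟨fun e he => by
    have := h.sq _ (mem_conj_iff.1 he)
    have h2 : e * e = g * ((g⁻¹ * e * g) * (g⁻¹ * e * g)) * g⁻¹ := by group
    rw [h2, this]; simp, by rw [card_conj]; exact h.card⟩

omit [Finite G] in
theorem sq_sup (hU : ∀ e ∈ U, e * e = 1) (hV : ∀ e ∈ V, e * e = 1)
    (hc : U ≤ centralizer (V : Set G)) : ∀ e ∈ U ⊔ V, e * e = 1 := by
  intro e he
  obtain ⟨u, hu, v, hv, rfl⟩ :=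
    (mem_sup_iff_of_left_le_normalizer (le_normalizer_of_le_centralizer hc)).1 he
  have := hc hu v hv
  calc u * v * (u * v) = u * (v * u) * v := by group
    _ = (u * u) * (v * v) := by rw [this]; group
    _ = 1 := by rw [hU u hu, hV v hv, one_mul]

omit [Finite G] in
theorem sq_zpowers (ht : t * t = 1) : ∀ e ∈ zpowers t, e * e = 1 := by
  rintro _ ⟨n, rfl⟩
  show t ^ n * t ^ n = 1
  rw [← zpow_add, ← two_mul, zpow_mul, zpow_two, ht, one_zpow]

theorem E8.sup_zpowers (h : E8 E) (ht : t * t = 1) (hc : E ≤ centralizer ({t} : Set G)) :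
    E8 (E ⊔ zpowers t) :=
  ⟨sq_sup h.sq (sq_zpowers ht) (by rwa [centralizer_zpowers]),
    h.card.trans (card_le_of_le le_sup_left)⟩

theorem e8_of_klein_lt (hU : IsKleinFour U) (hE : ∀ e ∈ E, e * e = 1) (h : U ≤ E) (hne : ¬ E ≤ U) :
    E8 E := by
  refine ⟨hE, ?_⟩
  have h1 := card_lt_of_lt (lt_of_le_not_ge h hne)
  have h2 := card_dvd_of_le h
  rw [(H11.isKleinFour_iff.1 hU).1] at h1 h2
  omega

omit [Finite G] in
theorem four_of_klein (hU : IsKleinFour U) : H9K.Four U :=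
  ⟨(H11.isKleinFour_iff.1 hU).1, (H11.isKleinFour_iff.1 hU).2⟩

theorem E8.four_le_card_inf (hE : E8 E) (hU : IsKleinFour U) (hn : E ≤ normalizer (U : Set G)) :
    4 ≤ Nat.card ↥(E ⊓ centralizer (U : Set G)) := by
  have h1 := H11.relIndex_centralizer_klein_le hE.isPGroup hU hn
  have h2 := H3.card_eq_card_inf_mul_relIndex (centralizer (U : Set G)) E
  have h3 := hE.card
  rw [inf_comm] at h2
  by_contra h
  have : Nat.card ↥(E ⊓ centralizer (U : Set G)) * (centralizer (U : Set G)).relIndex E ≤ 3 * 2 :=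
    Nat.mul_le_mul (by omega) h1
  omega

/-- A four-group normalized by an eight-group lies in an eight-group. -/
theorem E8.exists_ge_klein (hE : E8 E) (hU : IsKleinFour U) (hn : E ≤ normalizer (U : Set G)) :
    ∃ E', E8 E' ∧ U ≤ E' ∧ E' ≤ E ⊔ U ∧ 4 ≤ Nat.card ↥(E ⊓ E') := by
  by_cases h : E ⊓ centralizer (U : Set G) ≤ U
  · have h1 : E ⊓ centralizer (U : Set G) = U := eq_of_le_of_card_le h (by
      rw [(H11.isKleinFour_iff.1 hU).1]; exact hE.four_le_card_inf hU hn)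
    exact ⟨E, hE, h1.ge.trans inf_le_left, le_sup_left, 
      by rw [inf_idem]; exact le_trans (by norm_num) hE.card⟩
  · refine ⟨(E ⊓ centralizer (U : Set G)) ⊔ U, e8_of_klein_lt hU
      (sq_sup (fun e he => hE.sq e he.1) (H11.isKleinFour_iff.1 hU).2 inf_le_right) le_sup_right
      (fun h' => h (le_sup_left.trans h')), le_sup_right, sup_le_sup_right inf_le_left _, ?_⟩
    exact (hE.four_le_card_inf hU hn).trans (card_le_of_le (le_inf inf_le_left le_sup_left))

/-- A 2-group containing an eight-group has no self-centralizing four-group. -/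
theorem E8.not_centralizer_le (hT : IsPGroup 2 T) (hE : E8 E) (hET : E ≤ T) (hV : IsKleinFour V)
    (hVT : V ≤ T) (hn : T ≤ normalizer (V : Set G)) (hz : z ∈ T) (hz2 : z * z = 1)
    (hzV : z ∉ centralizer (V : Set G)) :
    ¬ T ⊓ centralizer (V : Set G) ⊓ centralizer {z} ≤ V := by
  intro h
  have h4 := four_of_klein hV
  obtain ⟨E', hE', hVE, hE'T, -⟩ := hE.exists_ge_klein hV (hET.trans hn)
  have hE'D : E' ≤ T ⊓ centralizer (V : Set G) :=
    le_inf (hE'T.trans (sup_le hET hVT)) fun e he v hv => hE'.comm (hVE hv) he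
  have hD : ¬ T ⊓ centralizer (V : Set G) ≤ V := fun h' => by
    have := card_le_of_le (hE'D.trans h')
    have h2 := hE'.card
    rw [(H11.isKleinFour_iff.1 hV).1] at this
    omega
  obtain ⟨x, hx, hxV, -, hc⟩ := H11.exists_central_mod_in hT inf_le_left hn
    (le_normalizer_inf le_normalizer (le_normalizer_centralizer hn)) hD
  obtain ⟨t, ht, ht1, hzt, hfix, hmove⟩ := h4.exists_fix (hn hz) hzV (by rw [hz2]; exact one_mem _)
  have hw := hc z hz
  have hzi : z⁻¹ = z := inv_eq_of_mul_eq_one_right hz2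
  have hwz : z * (z * x * z⁻¹ * x⁻¹) = (z * x * z⁻¹ * x⁻¹) * z := by
    have h1 := h4.inv_eq hw
    calc z * (z * x * z⁻¹ * x⁻¹) = (z * z) * x * z⁻¹ * x⁻¹ := by group
      _ = x * z * x⁻¹ * (z⁻¹ * z) := by rw [hz2, hzi, hz2]; group
      _ = (z * x * z⁻¹ * x⁻¹)⁻¹ * z := by group
      _ = _ := by rw [h1]
  rcases hfix _ hw hwz with h1 | h1
  · refine hxV (h ⟨hx, mem_centralizer_singleton_iff.2 ?_⟩)
    rw [mul_inv_eq_one, mul_inv_eq_iff_eq_mul] at h1
    exact h1.symm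
  · obtain ⟨v, hv, hvz⟩ : ∃ v ∈ V, z * v ≠ v * z := by
      by_contra hh
      push Not at hh
      exact hzV fun v hv => (hh v hv).symm
    have h2 := hmove v hv hvz
    have h3 : x * v ∈ V := by
      refine h ⟨mul_mem hx ⟨hVT hv, h4.le_centralizer hv⟩, mem_centralizer_singleton_iff.2 ?_⟩
      have e1 : z * x * z⁻¹ = t * x := by rw [← h1]; group
      have e2 : z * v * z⁻¹ = t * v := by rw [← h2]; group
      have e3 : t * x = x * t := hx.2 t ht
      have e4 : t * t = 1 := h4.sq t ht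
      have : z * (x * v) * z⁻¹ = x * v := by
        calc z * (x * v) * z⁻¹ = (z * x * z⁻¹) * (z * v * z⁻¹) := by group
          _ = x * (t * t) * v := by rw [e1, e2, e3]; group
          _ = x * v := by rw [e4]; group
      rw [mul_inv_eq_iff_eq_mul] at this
      exact this.symm
    exact hxV (by simpa using mul_mem h3 (inv_mem hv))

omit [Finite G] in
theorem klein_le_centralizer_self (hA : IsKleinFour A) : A ≤ centralizer (A : Set G) :=
  (four_of_klein hA).le_centralizer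

theorem mem_klein_of_not_e8 (hA : IsKleinFour A) (h : ¬ ∃ E, E8 E ∧ A ≤ E) (hz : z * z = 1)
    (hc : z ∈ centralizer (A : Set G)) : z ∈ A := by
  by_contra hzA
  refine h ⟨A ⊔ zpowers z, e8_of_klein_lt hA (sq_sup (four_of_klein hA).sq (sq_zpowers hz) ?_)
    le_sup_left fun h' => hzA (h' (le_sup_right (a := A) (mem_zpowers z))), le_sup_left⟩
  exact le_centralizer_iff.1 (zpowers_le.2 hc)

omit [Finite G] in
theorem klein_le_of_mem (hA : IsKleinFour A) (ha : a ∈ A) (hb : b ∈ A) (ha1 : a ≠ 1) (hb1 : b ≠ 1)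
    (hab : a ≠ b) (h1 : a ∈ K) (h2 : b ∈ K) : A ≤ K := by
  intro x hx
  rcases (H11.klein_mem_iff hA ha hb ha1 hb1 hab).1 hx with rfl | rfl | rfl | rfl
  exacts [one_mem _, h1, h2, mul_mem h1 h2]

theorem exists_e8_le_sylow (hT : H1.IsSylowIn 2 T H) (hE : E8 E) (hEH : E ≤ H) :
    ∃ g ∈ H, E.map (MulAut.conj g).toMonoidHom ≤ T := by
  obtain ⟨g, hg, h⟩ := H3.SylowIn.exists_conj_le ⟨hT.1, hT.2, hT.3⟩ hE.isPGroup hEH
  exact ⟨g, hg, h⟩

theorem exists_config_of_not_e8 {R : Subgroup G} (hA : IsKleinFour A) (h : ¬ ∃ E, E8 E ∧ A ≤ E)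
    (ha : a ∈ A) (hb : b ∈ A) (ha1 : a ≠ 1) (hb1 : b ≠ 1) (hab : a ≠ b)
    (hE : E8 E) (haE : a ∈ E) (hR : IsPGroup 2 R) (hRA : R ≤ centralizer (A : Set G)) :
    ∃ T E V : Subgroup G, IsPGroup 2 T ∧ R ≤ T ∧ T ≤ centralizer {a} ∧ E8 E ∧ E ≤ T ∧
      IsKleinFour V ∧ V ≤ T ∧ T ≤ normalizer (V : Set G) ∧ a ∈ centralizer (V : Set G) ∧
      b ∉ centralizer (V : Set G) := by
  obtain ⟨T, hT, hRT⟩ := H1.exists_isSylowIn_ge
    (hRA.trans (centralizer_le_centralizer_singleton ha)) hR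
  obtain ⟨g, -, hg⟩ := exists_e8_le_sylow hT hE (le_centralizer_singleton_of_ea hE.ea haE)
  obtain ⟨V, hVT, hV, hn⟩ := H11.exists_normalized_klein_of_eight hT.isPGroup hg (hE.cj g).card
    (hE.cj g).sq
  have haV : a ∈ centralizer (V : Set G) := le_centralizer_singleton_iff.1 (hVT.trans hT.le)
  refine ⟨T, _, V, hT.isPGroup, hRT, hT.le, hE.cj g, hg, hV, hVT, hn, haV, fun hbV => ?_⟩
  have h1 : A ≤ centralizer (V : Set G) := klein_le_of_mem hA ha hb ha1 hb1 hab haV hbV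
  have h2 : V ≤ A := fun v hv => mem_klein_of_not_e8 hA h ((four_of_klein hV).sq v hv)
    (le_centralizer_iff.1 h1 hv)
  have h3 : V = A := eq_of_le_of_card_le h2 (by
    rw [(four_of_klein hV).card, (four_of_klein hA).card])
  obtain ⟨E', hE', hVE, -⟩ := (hE.cj g).exists_ge_klein hV (hg.trans hn)
  exact h ⟨E', hE', h3 ▸ hVE⟩

/-- If every involution lies in an eight-group, so does every four-group. -/
theorem exists_e8_ge_klein (hbig : ∀ t : G, t * t = 1 → t ≠ 1 → ∃ E, E8 E ∧ t ∈ E)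
    (hA : IsKleinFour A) : ∃ E, E8 E ∧ A ≤ E := by
  by_contra h
  have hA4 := four_of_klein hA
  obtain ⟨t, ht, z, hz, ht1, hz1, htz⟩ := H11.klein_exists_gens hA
  obtain ⟨R, hR, hAR⟩ := H1.exists_isSylowIn_ge (klein_le_centralizer_self hA) hA4.isPGroup
  obtain ⟨E1, hE1, htE⟩ := hbig t (hA4.sq t ht) ht1
  obtain ⟨E2, hE2, hzE⟩ := hbig z (hA4.sq z hz) hz1
  obtain ⟨T, E, V, hT, hRT, hTt, hE, hET, hV, hVT, hn, htV, hzV⟩ :=
    exists_config_of_not_e8 hA h ht hz ht1 hz1 htz hE1 htE hR.isPGroup hR.le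
  obtain ⟨T', -, V', hT', hRT', -, -, -, hV', -, hn', -, htV'⟩ :=
    exists_config_of_not_e8 hA h hz ht hz1 ht1 htz.symm hE2 hzE hR.isPGroup hR.le
  have hsq : ∀ r ∈ R, r * r ≠ t := fun r hr e =>
    htV' (e ▸ (four_of_klein hV').sq_mem_of_isPGroup hn' hT' (hRT' hr))
  have hinv : ∀ x ∈ centralizer (A : Set G), x ∈ centralizer (V : Set G) → x * x = 1 →
      x = 1 ∨ x = t := by
    intro x hx hxV h2
    rcases (H11.klein_mem_iff hA ht hz ht1 hz1 htz).1 (mem_klein_of_not_e8 hA h h2 hx) with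
      h1 | h1 | h1 | h1
    · exact Or.inl h1
    · exact Or.inr h1
    · exact absurd (h1 ▸ hxV) hzV
    · refine absurd ?_ hzV
      have := mul_mem (inv_mem htV) hxV
      rwa [h1, inv_mul_cancel_left] at this
  have hcA : ∀ x ∈ T, x ∈ centralizer ({z} : Set G) → x ∈ centralizer (A : Set G) :=
    fun x hx hxz => le_centralizer_singleton_iff.1 (klein_le_of_mem hA ht hz ht1 hz1 htz
      (mem_centralizer_singleton_iff.2 (mem_centralizer_singleton_iff.1 (hTt hx)).symm)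
      (mem_centralizer_singleton_iff.2 (mem_centralizer_singleton_iff.1 hxz).symm))
  have hV4 := four_of_klein hV
  have hzT : z ∈ T := hRT (hAR hz)
  obtain ⟨t', ht', ht1', hzt', -, -⟩ := hV4.exists_fix (hn hzT) hzV
    (by rw [hA4.sq z hz]; exact one_mem _)
  have htV' : t ∈ V := by
    rcases hinv t' (hcA t' (hVT ht') (mem_centralizer_singleton_iff.2 hzt'.symm))
      (hV4.le_centralizer ht') (hV4.sq t' ht') with h1 | h1
    · exact absurd h1 ht1'
    · exact h1 ▸ ht'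
  have hRe : T ⊓ centralizer (A : Set G) ≤ R :=
    (hR.eq_of_le (le_inf hRT hR.le) inf_le_right (hT.to_le inf_le_left)).ge
  have key : ∀ k : ℕ, ∀ x ∈ R, x ∈ centralizer (V : Set G) → x ^ 2 ^ k = 1 → x = 1 ∨ x = t := by
    intro k
    induction k with
    | zero => intro x _ _ h1; exact Or.inl (by simpa using h1)
    | succ k ih =>
      intro x hx hxV h1
      rcases ih (x * x) (mul_mem hx hx) (mul_mem hxV hxV)
        (by rw [← pow_two, ← pow_mul, ← pow_succ', h1]) with h2 | h2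
      · exact hinv x (hR.le hx) hxV h2
      · exact absurd h2 (hsq x hx)
  refine hE.not_centralizer_le hT hET hV hVT hn hzT (hA4.sq z hz) hzV fun x hx => ?_
  obtain ⟨k, hk⟩ := hT ⟨x, hx.1.1⟩
  rcases key k x (hRe ⟨hx.1.1, hcA x hx.1.1 hx.2⟩) hx.1.2 (congrArg Subtype.val hk) with h1 | h1
  · exact h1 ▸ one_mem _
  · exact h1 ▸ htV'

end Cfsg.Agent.H10
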