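import Cfsg.Agent.H10.LBal
import Cfsg.Agent.H9.PCons
import Cfsg.Agent.S1342

/-!
# Core balance: `O(C_X(R)) ≤ L*(X)`
-/

set_option autoImplicit false

namespace Cfsg.Agent.H10

open Subgroup
open scoped Pointwise commutatorElement

variable {G : Type*} [Group G] {D N H Z K T R F Y : Subgroup G}

theorem le_of_coprime_relIndex (hn : H ≤ normalizer (N : Set G)) (hD : D ≤ H)
    (hc : (Nat.card D).Coprime (N.relIndex H)) : D ≤ N := by
  intro x hx
  have : (N.subgroupOf H).Normal := normal_subgroupOf_of_le_normalizer hn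
  have h1 : (⟨x, hD hx⟩ : H) ^ N.relIndex H ∈ N.subgroupOf H := pow_index_mem _ _
  have h2 : x ^ N.relIndex H ∈ N := h1
  have h0 : x ^ Nat.card D = 1 := by
    have := pow_card_eq_one' (x := (⟨x, hx⟩ : D))
    exact congrArg Subtype.val this
  have h3 : x ^ Nat.card D ∈ N := h0 ▸ N.one_mem
  have h4 : x ^ Nat.gcd (Nat.card D) (N.relIndex H) ∈ N := by
    have := Nat.gcd_eq_gcd_ab (Nat.card D) (N.relIndex H)
    rw [← zpow_natCast, this, zpow_add, zpow_mul, zpow_mul, zpow_natCast, zpow_natCast]
    exact N.mul_mem (N.zpow_mem h3 _) (N.zpow_mem h2 _)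
  rwa [hc, pow_one] at h4

variable [Finite G]

theorem le_of_le_sup_isPGroup {p : ℕ} [Fact p.Prime] (hZ : IsPGroup p Z)
    (hn : Z ≤ normalizer (N : Set G)) (hD : D ≤ Z ⊔ N) (hc : (Nat.card D).Coprime p) : D ≤ N := by
  refine le_of_coprime_relIndex (sup_le hn Subgroup.le_normalizer) hD ?_
  rw [relIndex_sup_of_le_normalizer hn]
  exact Nat.Coprime.coprime_dvd_right (relIndex_dvd_card _ _)
    (coprime_card_of_isPGroup hZ hc).symm

/-- A central Hall `p`-subgroup splits off. -/
theorem le_sup_OqOf_of_central {p : ℕ} [Fact p.Prime] (hZ : IsPGroup p Z) (hZK : Z ≤ K)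
    (hc : K ≤ centralizer (Z : Set G)) (hi : (Z.relIndex K).Coprime p) : K ≤ Z ⊔ OqOf p K := by
  have hn : K ≤ normalizer (Z : Set G) := hc.trans (centralizer_le_normalizer _)
  haveI : (Z.subgroupOf K).Normal := normal_subgroupOf_of_le_normalizer hn
  obtain ⟨M, hM⟩ := exists_right_complement'_of_coprime (N := Z.subgroupOf K) (by
    rw [card_subgroupOf_of_le hZK]
    exact coprime_card_of_isPGroup hZ hi)
  have h1 : Z ⊔ M.map K.subtype = K := by
    have := congrArg (Subgroup.map K.subtype) hM.sup_eq_top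
    rwa [Subgroup.map_sup, map_subgroupOf_eq_of_le hZK, ← MonoidHom.range_eq_map,
      range_subtype] at this
  have h2 : M.map K.subtype ≤ OqOf p K := by
    refine le_OqOf (map_subtype_le _) ?_ ?_
    · refine h1.ge.trans (sup_le ?_ Subgroup.le_normalizer)
      exact le_normalizer_of_le_centralizer
        (le_centralizer_iff.1 ((map_subtype_le M).trans hc))
    · rw [card_map_subtype, ← hM.symm.index_eq_card]
      exact hi
  exact h1.ge.trans (sup_le_sup_left h2 _)

/-- Glauberman: an odd order subgroup centralizing a Sylow 2-subgroup of `F`, with `C(F)` a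
2-group in `F`, lies in the core of the centralizer. -/
theorem le_OqOf_centralizer_of_sylow [F.Normal] (hO : OqOf 2 F = ⊥)
    (hC : centralizer (F : Set G) ≤ F) (hT : H1.IsSylowIn 2 T F)
    (hD : D ≤ centralizer (T : Set G)) (hc : (Nat.card D).Coprime 2) :
    D ≤ OqOf 2 (centralizer (T : Set G)) := by
  set C := centralizer (T : Set G) with hCdef
  let f := F.normalizerMonoidHom
  have hFn : ∀ U : Subgroup G, U ≤ normalizer (F : Set G) := fun U => le_normalizer_of_normal
  have hk : kr f = centralizer (F : Set G) := kr_normalizerMonoidHom F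
  have hZ2 : IsPGroup 2 (centralizer (F : Set G)) := by
    have := center_le_OpOf (p := 2) (SubnormalIn.refl F) hO
    rw [inf_eq_right.2 hC] at this
    exact OpOf_isPGroup.to_le this
  have hZT : centralizer (F : Set G) ≤ T :=
    hT.le_of_le_normalizer hC hZ2 le_normalizer_of_normal
  obtain ⟨Q, hQ⟩ := hT.exists_sylow
  obtain ⟨N, hN, hodd, h2, -⟩ := glauberman_aut (G := F) (fun N hN ho => by
    have h1 : N ≤ pPrimeCore 2 F := H1.le_pPrimeCore (Nat.coprime_two_right.2 ho)
    have h2 : pPrimeCore 2 F = ⊥ := by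
      rw [← OqOf_subgroupOf_self, hO, bot_subgroupOf]
    rw [h2] at h1; exact le_bot_iff.1 h1) Q (C := im f C) (fun φ hφ s hs => by
    obtain ⟨x, hx, hxJ, rfl⟩ := mem_im_iff.1 hφ
    refine Subtype.ext ?_
    have := hxJ s (hQ ▸ mem_map_of_mem _ hs)
    show x * s * x⁻¹ = s
    rw [← this]; group)
  set N' := N.map (im f C).subtype with hN'
  have hN'n : im f C ≤ normalizer (N' : Set _) := le_normalizer_map_subtype N
  have hi : ∃ k, N'.relIndex (im f C) = 2 ^ k := by
    obtain ⟨k, hk⟩ := IsPGroup.iff_card.1 h2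
    refine ⟨k, ?_⟩
    rw [← hk, relIndex, map_subtype_subgroupOf]; rfl
  obtain ⟨k, hi⟩ := hi
  have hDN : im f D ≤ N' := le_of_coprime_relIndex hN'n (im_mono hD) (by
    rw [hi]; exact (coprime_im (hFn _) hc).pow_right _)
  set K := pre f N' ⊓ C with hK
  have hZC : centralizer (F : Set G) ≤ C := centralizer_anti hT.le
  have hZK : centralizer (F : Set G) ≤ K := le_inf (hk ▸ kr_le_pre) hZC
  have hKn : C ≤ normalizer (K : Set G) :=
    le_normalizer_inf (le_normalizer_pre (hFn _) hN'n) Subgroup.le_normalizer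
  have hDK : D ≤ K := le_inf ((im_le_iff_le_pre (hFn _)).1 hDN) hD
  have hrel : ((centralizer (F : Set G)).relIndex K).Coprime 2 := by
    have h1 := card_im_mul (f := f) (hFn K)
    rw [hk, inf_eq_right.2 hZK] at h1
    have h3 := card_mul_relIndex hZK
    have h4 : Nat.card (im f K) = (centralizer (F : Set G)).relIndex K := by
      rw [← h3, mul_comm] at h1
      exact Nat.eq_of_mul_eq_mul_left Nat.card_pos h1
    rw [← h4]
    refine coprime_card_of_le ((im_le_iff_le_pre (hFn _)).2 inf_le_left) ?_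
    rw [hN', card_map_subtype]
    exact Nat.coprime_two_right.2 hodd
  have h5 := le_sup_OqOf_of_central hZ2 hZK
    (inf_le_right.trans (centralizer_anti hZT)) hrel
  have h6 : D ≤ OqOf 2 K := le_of_le_sup_isPGroup hZ2
    (le_normalizer_OqOf (hZK.trans Subgroup.le_normalizer)) (hDK.trans h5) hc
  exact h6.trans (SubnormalIn.of_normal inf_le_right hKn).OqOf_le

theorem OqOf_centralizer_le_of_core (hO : OqOf 2 (⊤ : Subgroup G) = ⊥)
    (hE : LayOf ⊤ ≤ Y)
    (hY : ∀ T : Subgroup G, H1.IsSylowIn 2 T (FstarOf ⊤) → OqOf 2 (centralizer (T : Set G)) ≤ Y)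
    (hR : IsPGroup 2 R) : OqOf 2 (centralizer (R : Set G)) ≤ Y := by
  set F := FstarOf (⊤ : Subgroup G) with hF
  have hFn : ∀ U : Subgroup G, U ≤ normalizer (F : Set G) := fun U =>
    le_normalizer_FstarOf le_normalizer_of_normal
  haveI : F.Normal := normal_of_normalizer_top (hFn _)
  have key : ∀ n : ℕ, ∀ R : Subgroup G, IsPGroup 2 R → Nat.card G - Nat.card R = n →
      OqOf 2 (centralizer (R : Set G)) ≤ Y := by
    intro n
    induction n using Nat.strong_induction_on with
    | _ n ih =>
    intro R hR hn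
    set D := OqOf 2 (centralizer (R : Set G)) with hD
    have hDC : D ≤ centralizer (R : Set G) := OqOf_le
    obtain ⟨T, hT, hRT⟩ := H1.exists_isSylowIn_ge
      (le_inf le_sup_right Subgroup.le_normalizer : R ≤ (F ⊔ R) ⊓ normalizer (R : Set G)) hR
    rcases hRT.lt_or_eq with hlt | heq
    · have hc : Nat.card R < Nat.card T := card_lt_of_lt hlt
      have hc2 : Nat.card T ≤ Nat.card G := card_le_card_group _
      have h1 := ih _ (by omega) T hT.isPGroup rfl
      have hTD : T ≤ normalizer (D : Set G) :=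
        le_normalizer_OqOf (le_normalizer_centralizer (hT.le.trans inf_le_right))
      have h2 := H1.commutator_sup_centralizer hTD
        (coprime_card_of_isPGroup hT.isPGroup OqOf_coprime)
        (Or.inl (isSolvable_of_isPGroup hT.isPGroup))
      rw [← h2]
      refine sup_le (le_trans ?_ hE) (le_trans ?_ h1)
      · have h3 : ⁅D, T⁆ ≤ F := by
          rw [commutator_comm]
          refine (commutator_mono (hT.le.trans inf_le_left) le_rfl).trans
            (commutator_sup_left_le (hFn _) (hFn _) (commutator_le_left _ _) ?_)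
          rw [commutator_eq_bot_iff_le_centralizer.2 (le_centralizer_iff.1 hDC)]
          exact bot_le
        rw [hF, FstarOf_eq, FitOf_eq_OpOf hO, sup_comm] at h3
        exact le_of_le_sup_isPGroup OpOf_isPGroup (le_normalizer_LayOf le_normalizer_of_normal) h3
          (coprime_card_of_le (commutator_le_left_of_le_normalizer hTD) OqOf_coprime)
      · rw [inf_comm]
        exact inf_OqOf_le (centralizer_anti hRT)
    · rw [← heq, inf_comm] at hT
      have hS := (H1.isSylowIn_of_isSylowIn_normalizer hT).inf le_sup_left (hFn _)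
      refine le_trans (le_OqOf_centralizer_of_sylow ?_ ?_ hS
        (hDC.trans (centralizer_anti inf_le_left)) OqOf_coprime) (hY _ hS)
      · exact le_bot_iff.1 (hO ▸ FstarOf_subnormalIn.OqOf_le)
      · have := inf_centralizer_FstarOf_le (⊤ : Subgroup G)
        rwa [top_inf_eq] at this
  exact key _ R hR rfl

theorem OqOf_centralizer_le_extended_of_sylow
    (h : H1.IsSylowIn 2 T (pLayer 2 G ⊔ pPrimePCore 2 G)) :
    OqOf 2 (centralizer (T : Set G)) ≤ extendedTwoLayer G := by
  obtain ⟨Q, rfl⟩ := h.exists_sylow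
  exact le_sup_of_le_right (le_iSup_of_le Q le_rfl)

theorem map_OqOf_centralizer_mk' {p : ℕ} [Fact p.Prime] (hR : IsPGroup p R) :
    (OqOf p (centralizer (R : Set G))).map (QuotientGroup.mk' (pPrimeCore p G)) =
      OqOf p (centralizer (R.map (QuotientGroup.mk' (pPrimeCore p G)) :
        Set (G ⧸ pPrimeCore p G))) := by
  rw [← OqOf_map_eq _ (coprime_inf_ker_mk' _),
    H9.centralizer_map_mk'_of_coprime hR (pPrimeCore_coprime p G)]

omit [Finite G] in
theorem exists_sylow_map_eq [Finite G] {G' : Type*} [Group G'] [Finite G'] {p : ℕ} [Fact p.Prime]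
    {f : G →* G'} (hf : Function.Surjective f) {M : Subgroup G} (hkM : f.ker ≤ M)
    {T : Subgroup G'} (hT : H1.IsSylowIn p T (M.map f)) :
    ∃ S, H1.IsSylowIn p S M ∧ S.map f = T := by
  have hTM : T.comap f ≤ M := by
    refine (comap_mono hT.le).trans ?_
    rw [comap_map_eq, sup_eq_left.2 hkM]
  obtain ⟨S, hS⟩ := H1.exists_isSylowIn p (T.comap f)
  have h2 : S.map f = T := by
    have := hS.map f
    rw [map_comap_eq_self_of_surjective hf] at this
    exact this.eq_of_le this.le le_rfl hT.isPGroup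
  exact ⟨S, hS.trans hTM (by rw [relIndex_comap]; exact hT.not_dvd), h2⟩

theorem map_pLayer_sup_pPrimePCore {p : ℕ} [Fact p.Prime] :
    (pLayer p G ⊔ pPrimePCore p G).map (QuotientGroup.mk' (pPrimeCore p G)) = FstarOf ⊤ := by
  have hO : OqOf p (⊤ : Subgroup (G ⧸ pPrimeCore p G)) = ⊥ := by
    rw [OqOf_top, pPrimeCore_quotient_pPrimeCore]
  rw [Subgroup.map_sup, map_pLayer_mk', H9.map_pPrimePCore, FstarOf_eq,
    FitOf_eq_OpOf hO, LayOf_top, OpOf_top]

/-- Core balance. -/
theorem OqOf_centralizer_le_extended (hR : IsPGroup 2 R) :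
    OqOf 2 (centralizer (R : Set G)) ≤ extendedTwoLayer G := by
  have hO : OqOf 2 (⊤ : Subgroup (G ⧸ pPrimeCore 2 G)) = ⊥ := by
    rw [OqOf_top, pPrimeCore_quotient_pPrimeCore]
  have hL1 : pLayer 2 G ≤ extendedTwoLayer G := le_sup_of_le_left le_sup_left
  have hL2 : pPrimeCore 2 G ≤ extendedTwoLayer G := le_sup_of_le_left le_sup_right
  have hL3 := fun T => OqOf_centralizer_le_extended_of_sylow (G := G) (T := T)
  generalize extendedTwoLayer G = Y at *
  have h1 : (OqOf 2 (centralizer (R : Set G))).map (QuotientGroup.mk' (pPrimeCore 2 G)) ≤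
      Y.map (QuotientGroup.mk' (pPrimeCore 2 G)) := by
    rw [map_OqOf_centralizer_mk' hR]
    refine OqOf_centralizer_le_of_core hO ?_ (fun T hT => ?_) (hR.map _)
    · rw [LayOf_top, ← map_pLayer_mk']
      exact map_mono hL1
    · rw [← map_pLayer_sup_pPrimePCore] at hT
      obtain ⟨S, hS, rfl⟩ := exists_sylow_map_eq (QuotientGroup.mk'_surjective _)
        (le_sup_of_le_right (ker_le_comap _ _)) hT
      rw [← map_OqOf_centralizer_mk' hS.isPGroup]
      exact map_mono (hL3 _ hS)
  rwa [Subgroup.map_le_map_iff, QuotientGroup.ker_mk', sup_eq_left.2 hL2] at h1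

/-- The extended layer of a subgroup. -/
def LstOf (H : Subgroup G) : Subgroup G := (extendedTwoLayer H).map H.subtype

theorem OqOf_inf_centralizer_le_LstOf (hR : IsPGroup 2 R) (hRH : R ≤ H) :
    OqOf 2 (H ⊓ centralizer (R : Set G)) ≤ LstOf H := by
  have := map_mono (f := H.subtype)
    (OqOf_centralizer_le_extended (isPGroup_subgroupOf hR H))
  rwa [map_OqOf_of_injective _ H.subtype_injective, map_subtype_centralizer,
    map_subgroupOf_eq_of_le hRH] at this

omit [Finite G] in
theorem PLayOf_le_LstOf : PLayOf 2 H ≤ LstOf H :=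
  map_mono (le_sup_of_le_left le_sup_left)

theorem le_normalizer_LstOf : H ≤ normalizer (LstOf H : Set G) :=
  haveI := S1342.result (X := H)
  le_normalizer_map_subtype _

omit [Finite G] in
theorem LstOf_le_of (h1 : PLayOf 2 H ≤ Y)
    (h2 : ∀ T ≤ H, IsPGroup 2 T → OqOf 2 (H ⊓ centralizer (T : Set G)) ≤ Y) : LstOf H ≤ Y := by
  rw [LstOf, extendedTwoLayer, Subgroup.map_sup, Subgroup.map_sup, Subgroup.map_iSup]
  refine sup_le (sup_le h1 ?_) (iSup_le fun T => ?_)
  · have := h2 ⊥ bot_le IsPGroup.of_bot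
    rwa [coe_bot, centralizer_eq_top_iff_subset.2 (by simp), inf_top_eq] at this
  · change (OqOf 2 _).map _ ≤ _
    rw [map_OqOf_of_injective _ H.subtype_injective, map_subtype_centralizer]
    exact h2 _ (map_subtype_le _) ((T.2.map _).map _)

end Cfsg.Agent.H10
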