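import Cfsg.Agent.H10.Dich1
import Cfsg.Agent.H10.FT
import Cfsg.Agent.H9.SFT4
import Cfsg.Agent.BS.BZ
import Cfsg.Agent.H10.Four

/-!
# The dichotomy theorem: groups with 2-constrained involution centralizers
-/

set_option autoImplicit false

namespace Cfsg.Agent.H10

open Subgroup
open scoped Pointwise commutatorElement

universe u

variable {G : Type u} [Group G] {H K Q S T X Y Z U V B E E' A : Subgroup G} {s t z a b v g q : G}

/-- The core of the centralizer. -/
abbrev th (a : G) : Subgroup G := OqOf 2 (centralizer {a})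

/-- The closure of the core functor. -/
abbrev Wc (B : Subgroup G) : Subgroup G := signalizerClosure B th

/-- All involution centralizers are 2-constrained. -/
def Con (G : Type u) [Group G] : Prop :=
  ∀ t : G, t * t = 1 → t ≠ 1 → PLayOf 2 (centralizer ({t} : Set G)) = ⊥

theorem conj_th (g a : G) : (th a).map (MulAut.conj g).toMonoidHom = th (g * a * g⁻¹) := by
  rw [conj_OqOf, conj_centralizer_singleton]

theorem klein_conj_mul_mem (hV : IsKleinFour V) (ht : t ∈ V) (ht1 : t ≠ 1)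
    (hq : q ∈ normalizer (V : Set G)) (hqt : q * t = t * q) (hv : v ∈ V) :
    q * v * q⁻¹ * v⁻¹ ∈ zpowers t := by
  by_cases h1 : v = 1
  · simp [h1]
  by_cases h2 : t = v
  · rw [← h2, hqt]; simp
  rcases (H11.klein_mem_iff hV ht hv ht1 h1 h2).1 ((mem_normalizer_iff.1 hq v).1 hv) with
    h | h | h | h
  · exact absurd (by simpa using h) h1
  · refine absurd ?_ h2
    rw [mul_inv_eq_iff_eq_mul, ← hqt] at h
    exact (mul_left_cancel h).symm
  · rw [h]; simp
  · rw [h]; simp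

variable [Finite G]

theorem conj_Wc (g : G) (B : Subgroup G) :
    (Wc B).map (MulAut.conj g).toMonoidHom = Wc (B.map (MulAut.conj g).toMonoidHom) := by
  refine le_antisymm (map_le_iff_le_comap.2 (signalizerClosure_le fun a ha h1 => ?_))
    (signalizerClosure_le fun b hb h1 => ?_)
  · rw [← map_le_iff_le_comap, conj_th]
    exact le_signalizerClosure (conj_mem_conj g ha) (by simpa using h1)
  · have : b = g * (g⁻¹ * b * g) * g⁻¹ := by group
    rw [this, ← conj_th]
    refine map_mono (le_signalizerClosure (mem_conj_iff.1 hb) fun e => h1 ?_)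
    rw [this, e]; simp

theorem normalizer_le_normalizer_Wc : normalizer (B : Set G) ≤ normalizer (Wc B : Set G) :=
  fun g hg => mem_normalizer_iff_conj_eq.2 (by rw [conj_Wc, mem_normalizer_iff_conj_eq.1 hg])

theorem Con.bal (h : Con G) (ha : a * a = 1) (hb : b * b = 1) (hb1 : b ≠ 1) (hab : a * b = b * a) :
    th a ⊓ centralizer {b} ≤ th b :=
  OqOf_centralizer_inf_le_of_PLayOf (by rw [pow_two, ha]) hab (h b hb hb1)

theorem Con.mem (h : Con G) (hE : E8 E) : Mem 2 E th (Wc E) := by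
  obtain ⟨D, hD, hle⟩ := H9S.sft_two (A := E) (θ := th)
    ⟨hE.ea, fun a _ _ => OqOf_le, fun a _ _ => OqOf_coprime,
      fun a ha _ => le_normalizer_OqOf (le_normalizer_centralizer_singleton_of_ea hE.ea ha),
      fun a ha _ b hb h1 => h.bal (hE.sq a ha) (hE.sq b hb) h1 (hE.comm ha hb),
      fun a _ _ => oddSolv _ (Nat.coprime_two_right.1 OqOf_coprime)⟩ hE.card
  exact hD.of_le (signalizerClosure_le hle) (le_normalizer.trans normalizer_le_normalizer_Wc)

theorem Con.W_eq (h : Con G) (hE : E8 E) (hB : B ≤ E) (h4 : 4 ≤ Nat.card B) : Wc B = Wc E :=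
  le_antisymm (signalizerClosure_le fun _ ha h1 => le_signalizerClosure (hB ha) h1)
    ((h.mem hE).le_of_forall hE.ea hB h4 fun _ hb h1 => le_signalizerClosure hb h1)

theorem Con.W_eq_of_normal (h : Con G) (hE : E8 E) (hU : IsKleinFour U)
    (hn : E ≤ normalizer (U : Set G)) : Wc E = Wc U := by
  obtain ⟨E', hE', hU', -, h4⟩ := hE.exists_ge_klein hU hn
  rw [← h.W_eq hE inf_le_left h4, h.W_eq hE' inf_le_right h4,
    h.W_eq hE' hU' (four_of_klein hU).card.ge]

theorem Con.W_eq_of_two (h : Con G) (hT : IsPGroup 2 T) (hE : E8 E) (hE' : E8 E') (h1 : E ≤ T)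
    (h2 : E' ≤ T) : Wc E = Wc E' := by
  obtain ⟨U, -, hU, hn⟩ := H11.exists_normalized_klein_of_eight hT h1 hE.card hE.sq
  rw [h.W_eq_of_normal hE hU (h1.trans hn), h.W_eq_of_normal hE' hU (h2.trans hn)]

theorem Con.normalizer_le (h : Con G) (hT : IsPGroup 2 T) (hE : E8 E) (h1 : E ≤ T) :
    normalizer (T : Set G) ≤ normalizer (Wc E : Set G) := fun g hg =>
  mem_normalizer_iff_conj_eq.2 (by
    rw [conj_Wc]; exact h.W_eq_of_two hT (hE.cj g) hE (conj_le_of_mem h1 hg) h1)

theorem Con.le_Wc (h : Con G) (hV : IsKleinFour V) (ht : t ∈ V)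
    (hP : ∀ v ∈ V, v ≠ 1 → v ≠ t → t ∈ PPOf 2 (centralizer {v}))
    (hX : (Nat.card X).Coprime 2) (hn : V ≤ normalizer (X : Set G))
    (hc : X ⊓ centralizer {t} ≤ th t) : X ≤ Wc V := by
  have h4 := four_of_klein hV
  refine le_of_forall_point h4.isEA h4.card.ge hn hX fun v hv h1 => ?_
  refine le_trans ?_ (le_signalizerClosure hv h1)
  by_cases hvt : v = t
  · exact hvt ▸ hc
  have htn : zpowers t ≤ normalizer ((X ⊓ centralizer {v} : Subgroup G) : Set G) :=
    le_normalizer_inf ((zpowers_le.2 ht).trans hn)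
      (le_normalizer_of_le (zpowers_le_centralizer_singleton (h4.comm ht hv)))
  have ht2 : IsPGroup 2 (zpowers t) := h4.isPGroup.to_le (zpowers_le.2 ht)
  have hY : (Nat.card ↥(X ⊓ centralizer {v})).Coprime 2 := coprime_card_of_le inf_le_left hX
  rw [← H1.commutator_sup_centralizer htn (coprime_card_of_isPGroup ht2 hY)
    (Or.inl (isSolvable_of_isPGroup ht2))]
  refine sup_le (le_OqOf_of_le_PPOf ?_
    (coprime_card_of_le (commutator_le_left_of_le_normalizer htn) hY)) ?_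
  · exact (commutator_mono inf_le_right (zpowers_le.2 (hP v hv h1 hvt))).trans
      (commutator_le_right_of_le_normalizer le_normalizer_PPOf)
  · rw [centralizer_zpowers]
    refine le_trans ?_ (h.bal (h4.sq t ht) (h4.sq v hv) h1 (h4.comm ht hv))
    exact le_inf ((inf_le_inf_right _ inf_le_left).trans hc) (inf_le_left.trans inf_le_right)

theorem Con.mem_PPOf (h : Con G) (hT : H1.IsSylowIn 2 T ⊤)
    (hZ : ∀ z ∈ T, z ∈ centralizer (T : Set G) → z * z = 1 → z = 1 ∨ z = t)
    (htT : T ≤ centralizer {t}) (hV : IsKleinFour V) (hVT : V ≤ T)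
    (hn : T ≤ normalizer (V : Set G)) (ht : t ∈ V) (ht1 : t ≠ 1) (hv : v ∈ V) (hv1 : v ≠ 1)
    (hvt : v ≠ t) : t ∈ PPOf 2 (centralizer {v}) := by
  have h4 := four_of_klein hV
  set R := T ⊓ centralizer (V : Set G) with hR
  obtain ⟨S, hS, hRS⟩ := H1.exists_isSylowIn_ge
    (inf_le_right.trans (centralizer_le_centralizer_singleton hv) : R ≤ centralizer {v})
    (hT.isPGroup.to_le inf_le_left)
  have htR : t ∈ R := ⟨hVT ht, h4.le_centralizer ht⟩
  have hvR : v ∈ R := ⟨hVT hv, h4.le_centralizer hv⟩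
  have hRt : ∀ r ∈ R, t * r = r * t := fun r hr => hr.2 t ht
  refine mem_PPOf_of_commutator (h v (h4.sq v hv) hv1)
    (hS.inf PPOf_le (hS.le.trans le_normalizer_PPOf)) (h4.isPGroup.to_le (zpowers_le.2 hv))
    (zpowers_le.2 (self_mem_centralizer v)) (centralizer_zpowers v).ge (hS.le (hRS htR))
    fun q hq => ?_
  replace hq : q ∈ S := hq.1
  by_cases hqR : q ∈ R
  · rw [hRt q hqR]; simp
  have c1 := H11.relIndex_centralizer_klein_le hT.isPGroup hV hn
  have c2 := H3.card_eq_card_inf_mul_relIndex (centralizer (V : Set G)) T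
  rw [inf_comm, ← hR] at c2
  have c3 : Nat.card S ≤ Nat.card T := Nat.le_of_dvd Nat.card_pos (hT.card_dvd le_top hS.isPGroup)
  have c4 : Nat.card R * R.relIndex S = Nat.card S := card_mul_relIndex hRS
  have c5 : R.relIndex S ≠ 1 := fun e => hqR (relIndex_eq_one.1 e hq)
  have c6 : R.relIndex S ≠ 0 := index_ne_zero_of_finite
  have c7 : 0 < Nat.card R := Nat.card_pos
  have c8 : Nat.card T ≤ Nat.card R * 2 := c2 ▸ Nat.mul_le_mul_left _ c1
  have c9 : R.relIndex S = 2 := by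
    have : Nat.card R * R.relIndex S ≤ Nat.card R * 2 := by omega
    have := Nat.le_of_mul_le_mul_left this c7
    omega
  have hS' : H1.IsSylowIn 2 S ⊤ := hT.of_card_eq le_top (by rw [c9] at c4; omega)
  obtain ⟨g, -, hg⟩ := hT.exists_conj_eq hS'
  have huniq : ∀ z ∈ S, z ∈ centralizer (S : Set G) → z * z = 1 → z = 1 ∨ z = g * t * g⁻¹ := by
    intro z hz hzc hz2
    rw [← hg] at hz hzc
    rw [H3.centralizer_conj_smul] at hzc
    rcases hZ _ (H3.mem_conj_smul.1 hz) (H3.mem_conj_smul.1 hzc) (by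
      calc g⁻¹ * z * g * (g⁻¹ * z * g) = g⁻¹ * (z * z) * g := by group
        _ = 1 := by rw [hz2]; group) with e | e
    · left
      calc z = g * (g⁻¹ * z * g) * g⁻¹ := by group
        _ = 1 := by rw [e]; group
    · right; rw [← e]; group
  have hvS : v = g * t * g⁻¹ := (huniq v (hRS hvR) (le_centralizer_singleton_iff.1 hS.le)
    (h4.sq v hv)).resolve_left hv1
  have hti : t⁻¹ = t := h4.inv_eq ht
  have hcj : ∀ r ∈ R, q⁻¹ * r * q ∈ R := fun r hr => by
    rw [mul_assoc]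
    refine H11.mul_mem_of_relIndex_two c9 (inv_mem hq) (mul_mem (hRS hr) hq)
      (fun e => hqR (inv_mem_iff.1 e)) fun e => hqR ?_
    simpa using mul_mem (inv_mem hr) e
  have ht' : ∀ r ∈ R, q * t * q⁻¹ * r = r * (q * t * q⁻¹) := fun r hr => by
    calc q * t * q⁻¹ * r = q * (t * (q⁻¹ * r * q)) * q⁻¹ := by group
      _ = _ := by rw [hRt _ (hcj r hr)]; group
  have hqq := hRt _ (H11.sq_mem_of_relIndex_two c9 hq)
  have hwq : q * (t * q * t⁻¹ * q⁻¹) = (t * q * t⁻¹ * q⁻¹) * q := by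
    rw [hti]
    calc q * (t * q * t * q⁻¹) = (q * t * q⁻¹) * ((q * q) * t) * q⁻¹ := by group
      _ = (q * t * q⁻¹ * t) * q := by rw [← hqq]; group
      _ = _ := by rw [ht' t htR]; group
  have hwR : ∀ r ∈ R, r * (t * q * t⁻¹ * q⁻¹) = (t * q * t⁻¹ * q⁻¹) * r := fun r hr => by
    rw [hti]
    calc r * (t * q * t * q⁻¹) = (r * t) * (q * t * q⁻¹) := by group
      _ = t * (r * (q * t * q⁻¹)) := by rw [← hRt r hr]; group
      _ = _ := by rw [← ht' r hr]; group
  have hwS : t * q * t⁻¹ * q⁻¹ ∈ S :=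
    mul_mem (mul_mem (mul_mem (hRS htR) hq) (inv_mem (hRS htR))) (inv_mem hq)
  refine (huniq _ hwS (fun s hs => ?_) ?_).elim (fun e => ?_) fun e => ?_
  rotate_left 2
  · rw [e]; exact one_mem _
  · rw [e, ← hvS]; exact mem_zpowers v
  · by_cases hsR : s ∈ R
    · exact hwR s hsR
    · have h1 := hwR _ (H11.mul_mem_of_relIndex_two c9 hs hq hsR hqR)
      rw [mul_assoc s q, hwq, ← mul_assoc, ← mul_assoc _ s q] at h1
      exact mul_right_cancel h1
  · rw [hti]
    calc t * q * t * q⁻¹ * (t * q * t * q⁻¹) = t * (q * t * q⁻¹ * t) * (q * t * q⁻¹) := by group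
      _ = (t * t) * (q * (t * t) * q⁻¹) := by rw [ht' t htR]; group
      _ = 1 := by rw [h4.sq t ht]; group

theorem Con.centralizer_le_aux (h : Con G) (ht1 : t ≠ 1) (hE : E8 E) (htE : t ∈ E) :
    centralizer {t} ≤ normalizer (Wc E : Set G) := by
  have ht := hE.sq t htE
  obtain ⟨T, hT, hET⟩ := H1.exists_isSylowIn_ge (le_centralizer_singleton_of_ea hE.ea htE)
    hE.isPGroup
  have hTW : T ≤ normalizer (Wc E : Set G) := le_normalizer.trans (h.normalizer_le hT.isPGroup hE hET)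
  set P := PPOf 2 (centralizer ({t} : Set G)) with hP
  have hT0 : H1.IsSylowIn 2 (T ⊓ P) P := hT.inf PPOf_le (hT.le.trans le_normalizer_PPOf)
  have hθ : th t ≤ Wc E := le_signalizerClosure htE ht1
  have hcent : ∀ z ∈ T, z ∈ centralizer ((T ⊓ P : Subgroup G) : Set G) → z ∈ T ⊓ P :=
    fun z hz hc => ⟨hz, mem_PPOf_of_centralizes (h t ht ht1) hT0 (hT.le hz) hc⟩
  have htT : t ∈ centralizer (T : Set G) := le_centralizer_singleton_iff.1 hT.le
  rw [← hT0.sup_normalizer_inf PPOf_le le_normalizer_PPOf]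
  refine sup_le ((PPOf_le_sup hT0).trans (sup_le (inf_le_left.trans hTW)
    (le_normalizer_of_le hθ))) fun g hg => ?_
  obtain ⟨hgN, hgC⟩ := mem_inf.1 hg
  by_cases hZ : ∃ z ∈ omegaOneCenter 2 (T ⊓ P), z ≠ 1 ∧ z ≠ t
  · obtain ⟨z, hz, hz1, hzt⟩ := hZ
    set Z0 := omegaOneCenter 2 (T ⊓ P) with hZ0
    have hsq : ∀ e ∈ Z0, e * e = 1 := fun e he => by
      rw [← pow_two]; exact (H24.mem_omegaOneCenter.1 he).2.2
    have htZ : t ∈ Z0 := H24.mem_omegaOneCenter.2 ⟨hcent t (hET htE) (centralizer_anti inf_le_left htT),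
      centralizer_anti inf_le_left htT, by rw [pow_two, ht]⟩
    have hU := H11.isKleinFour_closure (orderOf_eq_of_pow (by rw [pow_two, hsq z hz]) hz1)
      (orderOf_eq_of_pow (by rw [pow_two, ht]) ht1) hzt (H11.comm_of_sq_eq_one hsq hz htZ)
    have hUZ : closure ({z, t} : Set G) ≤ Z0 := by
      rw [closure_le]; rintro _ (rfl | rfl); exacts [hz, htZ]
    have hW : Wc E = Wc Z0 := by
      by_cases hle : Z0 ≤ closure ({z, t} : Set G)
      · rw [le_antisymm hUZ hle] at hU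
        refine h.W_eq_of_normal hE hU (hET.trans (H24.le_normalizer_omegaOneCenter ?_))
        exact le_normalizer_inf le_normalizer (hT.le.trans le_normalizer_PPOf)
      · exact h.W_eq_of_two hT.isPGroup hE (e8_of_klein_lt hU hsq hUZ hle) hET
          ((H24.omegaOneCenter_le _ _).trans inf_le_left)
    rw [hW]
    exact normalizer_le_normalizer_Wc (H24.le_normalizer_omegaOneCenter le_rfl hgN)
  · have hZT : ∀ z ∈ T, z ∈ centralizer (T : Set G) → z * z = 1 → z = 1 ∨ z = t := by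
      intro z hz hc h2
      by_contra hh
      push Not at hh
      exact hZ ⟨z, H24.mem_omegaOneCenter.2 ⟨hcent z hz (centralizer_anti inf_le_left hc),
        centralizer_anti inf_le_left hc, by rw [pow_two, h2]⟩, hh⟩
    have hTG : H1.IsSylowIn 2 T ⊤ := by
      refine H1.isSylowIn_of_isSylowIn_normalizer (hT.of_le (le_inf le_normalizer le_top)
        fun n hn => ?_)
      rcases hZT (n * t * n⁻¹) ((mem_normalizer_iff.1 hn.1 t).1 (hET htE))
        ((mem_normalizer_iff.1 (normalizer_le_normalizer_centralizer T hn.1) t).1 htT) (by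
          calc n * t * n⁻¹ * (n * t * n⁻¹) = n * (t * t) * n⁻¹ := by group
            _ = 1 := by rw [ht]; group) with e | e
      · exact absurd (by simpa using e) ht1
      · exact mem_centralizer_singleton_iff.2 (mul_inv_eq_iff_eq_mul.1 e)
    obtain ⟨V, hVT, hV, hn⟩ := H11.exists_normalized_klein_of_eight hT.isPGroup hET hE.card hE.sq
    have h4 := four_of_klein hV
    have htV : t ∈ V := by
      obtain ⟨z, hz, hz1⟩ := exists_ne_one_of_ne_bot
        (H1.inf_centralizer_ne_bot_of_isPGroup h4.isPGroup hT.isPGroup hn h4.ne_bot)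
      exact (hZT z (hVT hz.1) hz.2 (h4.sq z hz.1)).resolve_left hz1 ▸ hz.1
    have hVP : V ≤ T ⊓ P := le_inf hVT fun v hv => by
      refine mem_PPOf_of_commutator (h t ht ht1) hT0 (h4.isPGroup.to_le (zpowers_le.2 htV))
        (zpowers_le.2 (self_mem_centralizer t)) (centralizer_zpowers t).ge (hT.le (hVT hv))
        fun q hq => ?_
      have := inv_mem (klein_conj_mul_mem hV htV ht1 (hn hq.1)
        (mem_centralizer_singleton_iff.1 (hT.le hq.1)) hv)
      convert this using 1; group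
    have hgt : g * t * g⁻¹ = t := mul_inv_eq_iff_eq_mul.2 (mem_centralizer_singleton_iff.1 hgC)
    have key := h.le_Wc hV htV
      (fun v hv h1 h2 => h.mem_PPOf hTG hZT hT.le hV hVT hn htV ht1 hv h1 h2)
      (X := (Wc E).map (MulAut.conj g).toMonoidHom) (by rw [card_conj]; exact (h.mem hE).cop)
      (by
        rw [← conj_normalizer]
        refine hVP.trans ?_
        rw [← mem_normalizer_iff_conj_eq.1 hgN]
        exact map_mono (inf_le_left.trans hTW))
      (by
        rw [← hgt, ← conj_th, ← conj_centralizer_singleton,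
          ← Subgroup.map_inf _ _ _ (conj_injective g)]
        exact map_mono ((h.mem hE).le t htE ht1))
    rw [← h.W_eq_of_normal hE hV (hET.trans hn)] at key
    exact mem_normalizer_of_conj_le fun x hx => key (conj_mem_conj g hx)

theorem Con.W_eq_of_mem (h : Con G) (ht1 : t ≠ 1) (hE : E8 E) (hE' : E8 E') (h1 : t ∈ E)
    (h2 : t ∈ E') : Wc E = Wc E' := by
  obtain ⟨T, hT, hET⟩ := H1.exists_isSylowIn_ge (le_centralizer_singleton_of_ea hE.ea h1)
    hE.isPGroup
  obtain ⟨g, hg, hle⟩ := exists_e8_le_sylow hT hE' (le_centralizer_singleton_of_ea hE'.ea h2)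
  rw [h.W_eq_of_two hT.isPGroup hE (hE'.cj g) hET hle, ← conj_Wc]
  exact mem_normalizer_iff_conj_eq.1 (h.centralizer_le_aux ht1 hE' h2 hg)

theorem Con.W_eq_of_comm (h : Con G) (hbig : ∀ t : G, t * t = 1 → t ≠ 1 → ∃ E, E8 E ∧ t ∈ E)
    (ha1 : a ≠ 1) (hb1 : b ≠ 1) (hab : a * b = b * a) (hE : E8 E) (hE' : E8 E') (h1 : a ∈ E)
    (h2 : b ∈ E') : Wc E = Wc E' := by
  by_cases e : a = b
  · exact h.W_eq_of_mem ha1 hE hE' h1 (e ▸ h2)
  obtain ⟨F, hF, hle⟩ := exists_e8_ge_klein hbig (H11.isKleinFour_closure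
    (orderOf_eq_of_pow (by rw [pow_two, hE.sq a h1]) ha1)
    (orderOf_eq_of_pow (by rw [pow_two, hE'.sq b h2]) hb1) e hab)
  rw [h.W_eq_of_mem ha1 hE hF h1 (hle (subset_closure (by simp))),
    h.W_eq_of_mem hb1 hE' hF h2 (hle (subset_closure (by simp)))]

/-- An odd order normal subgroup of a strongly embedded subgroup lies in `O(G)` when the 2-rank
is at least 2. -/
theorem le_oddCore_of_se {M W : Subgroup G} (hM : IsStronglyEmbedded M) (h2 : BS.Two G)
    (hO : oddCore G = ⊥) (hW : W ≤ M) (hn : M ≤ normalizer (W : Set G))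
    (hc : (Nat.card W).Coprime 2) : W = ⊥ := by
  obtain ⟨Q, -, hQM, hMQ, hodd, htr⟩ := BS.Bd.bender_Q hM h2
  have hQ : IsPGroup 2 Q := H9.isPGroup_of_forall_coprime fun g hg hcop => by
    have := hodd g hg (Nat.coprime_two_right.1 hcop)
    rwa [hO, mem_bot] at this
  have hcomm := commutator_eq_bot_iff_le_centralizer.1
    (commutator_eq_bot_of_isPGroup_of_coprime (hQM.trans hn) (hW.trans hMQ) hQ hc)
  rw [eq_bot_iff, ← hO, ← BS.Bd.core_eq_odd hM h2]
  intro w hw x
  by_cases hx : x ∈ M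
  · exact mul_mem (mul_mem hx (hW hw)) (inv_mem hx)
  obtain ⟨q, hq, hm⟩ := htr x⁻¹ (w * x⁻¹) (fun e => hx (inv_mem_iff.1 e)) (fun e => hx (by
    simpa using mul_mem (inv_mem e) (hW hw)))
  obtain ⟨k, hk⟩ := hQ ⟨q, hq⟩
  have hk' : q ^ 2 ^ k = 1 := congrArg Subtype.val hk
  have h1 : (x * w * x⁻¹) ^ 2 ^ k ∈ M := by
    have e1 : (w * x⁻¹)⁻¹ * (q * x⁻¹) = x * (w⁻¹ * q) * x⁻¹ := by group
    have h3 := pow_mem hm (2 ^ k)
    have hc' : Commute w⁻¹ q := (show Commute w q from hcomm hq w hw).inv_left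
    rw [e1, conj_pow, hc'.mul_pow, hk', mul_one] at h3
    rw [conj_pow]
    convert inv_mem h3 using 1
    rw [inv_pow]; group
  have h4 : (orderOf (x * w * x⁻¹)).Coprime (2 ^ k) := by
    rw [orderOf_conj]; exact (coprime_orderOf_of_mem hc hw).pow_right _
  obtain ⟨m, hm'⟩ := exists_pow_eq_self_of_coprime h4.symm
  rw [← hm']
  exact pow_mem h1 m

theorem Con.th_eq_bot (h : Con G) (hO : oddCore G = ⊥)
    (hbig : ∀ t : G, t * t = 1 → t ≠ 1 → ∃ E, E8 E ∧ t ∈ E) (ht : t * t = 1) (ht1 : t ≠ 1) :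
    th t = ⊥ := by
  obtain ⟨E, hE, htE⟩ := hbig t ht ht1
  refine le_bot_iff.1 ((le_signalizerClosure htE ht1).trans (le_bot_iff.2 ?_))
  set M := normalizer (Wc E : Set G) with hM
  by_cases hM1 : M = ⊤
  · haveI : (Wc E).Normal := normal_of_normalizer_top hM1.ge
    exact le_bot_iff.1 (hO ▸ le_pPrimeCore (h.mem hE).cop)
  obtain ⟨S, hS, hES⟩ := H1.exists_isSylowIn_ge (le_top : E ≤ ⊤) hE.isPGroup
  have hSM : S ≤ M := le_normalizer.trans (h.normalizer_le hS.isPGroup hE hES)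
  obtain ⟨z, hz, hz2, hzc⟩ := exists_central_orderOf hS.isPGroup hS.isPGroup le_normalizer
    fun e => ht1 (by simpa [e] using hES htE)
  have hz1 := ne_one_of_orderOf hz2
  obtain ⟨Ez, hEz, hzE⟩ := hbig z (by rw [← pow_two, ← hz2, pow_orderOf_eq_one]) hz1
  have hW : ∀ x ∈ M, x ≠ 1 → ∀ F, E8 F → x ∈ F → Wc F = Wc E := by
    intro x hx hx1 F hF hxF
    obtain ⟨m, hm, hle⟩ := H3.SylowIn.exists_conj_le (Q := S) (H := M)
      ⟨hSM, hS.isPGroup, (hS.of_le hSM le_top).not_dvd⟩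
      (hF.isPGroup.to_le (zpowers_le.2 hxF)) (zpowers_le.2 hx)
    have h1 : m * x * m⁻¹ ∈ S := hle (conj_mem_conj m (mem_zpowers x))
    have h2 := h.W_eq_of_comm hbig (by simpa using hx1) hz1
      (mem_centralizer_singleton_iff.1 (hzc h1)) (hF.cj m) hEz (conj_mem_conj m hxF) hzE
    rw [← h.W_eq_of_comm hbig ht1 hz1 (mem_centralizer_singleton_iff.1 (hzc (hES htE))) hE hEz htE
      hzE, ← conj_Wc] at h2
    rw [← conj_inv_conj (Wc F) m, h2]
    exact mem_normalizer_iff_conj_eq.1 (inv_mem hm)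
  have hSE : IsStronglyEmbedded M := by
    refine H11.isStronglyEmbedded_iff.2 ⟨hM1, even_iff_two_dvd.2
      (dvd_card_of_orderOf (hSM hz) hz2), fun x hx hx2 g hg => ?_⟩
    have hx1 := ne_one_of_orderOf hx2
    obtain ⟨F, hF, hxF⟩ := hbig x (by rw [← pow_two, ← hx2, pow_orderOf_eq_one]) hx1
    have h1 := hW _ hg (by simpa using hx1) _ (hF.cj g) (conj_mem_conj g hxF)
    rw [← conj_Wc, hW x hx hx1 F hF hxF] at h1
    exact mem_normalizer_iff_conj_eq.2 h1
  obtain ⟨V, -, hV, -⟩ := H11.exists_normalized_klein_of_eight hE.isPGroup le_rfl hE.card hE.sq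
  obtain ⟨a, ha, b, hb, ha1, hb1, hab⟩ := H11.klein_exists_gens hV
  exact le_oddCore_of_se hSE ⟨a, b, ha1, hb1, hab, H11.klein_sq hV ha, H11.klein_sq hV hb,
    H11.klein_comm hV ha hb⟩ hO le_normalizer le_rfl (h.mem hE).cop

theorem con_of_not_componentType (h : ¬ IsComponentType G) : Con G := by
  intro t ht ht1
  rw [PLayOf_eq_bot_iff', pLayer_eq_bot_iff, layer_eq_bot_iff]
  exact fun K hK => h ⟨t, orderOf_eq_of_pow (by rw [pow_two, ht]) ht1, K, hK⟩

theorem exists_e8_of_not_pRankLE (h : ¬ PRankLE 2 2 G) : ∃ E : Subgroup G, E8 E := by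
  unfold PRankLE at h
  push Not at h
  obtain ⟨A, -, h2, h3⟩ := h
  have hsq : ∀ e ∈ A, e * e = 1 := fun e he => by rw [← pow_two, h2 e he]
  obtain ⟨V, hVA, hV⟩ := exists_klein_of_sq hsq (by omega)
  refine ⟨A, e8_of_klein_lt hV hsq hVA fun hle => ?_⟩
  have := card_le_of_le hle
  rw [(four_of_klein hV).card] at this
  omega

theorem Con.charTwo (h : Con G) (hO : oddCore G = ⊥) (he : Even (Nat.card G))
    (hbig : ∀ t : G, t * t = 1 → t ≠ 1 → ∃ E, E8 E ∧ t ∈ E) : IsCharacteristicTwoType G := by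
  refine ⟨he, fun T hT hne => ?_⟩
  obtain ⟨t, htT, ht⟩ := exists_orderOf_eq_of_isPGroup hT hne
  have ht2 : t * t = 1 := by rw [← pow_two, ← ht, pow_orderOf_eq_one]
  have h1 : XOf 2 (centralizer (zpowers t : Set G)) = ⊥ := by
    rw [centralizer_zpowers, XOf_def, h t ht2 (ne_one_of_orderOf ht),
      show OqOf 2 _ = ⊥ from h.th_eq_bot hO hbig ht2 (ne_one_of_orderOf ht), bot_sup_eq]
  have h2 := XOf_centralizer_eq_bot_of_le hT (zpowers_le.2 htT) h1
  rw [← XOf_normalizer hT] at h2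
  exact XOf_eq_bot_iff_char.1 h2

theorem big_of_centralizes (hU : IsKleinFour U) (hE : E8 E) (hUE : U ≤ E) (ht : t * t = 1)
    (hc : t ∈ centralizer (U : Set G)) : ∃ E, E8 E ∧ t ∈ E := by
  by_cases h : ∃ E, E8 E ∧ U ≤ E ∧ t ∈ E
  · obtain ⟨E, h1, -, h2⟩ := h
    exact ⟨E, h1, h2⟩
  refine ⟨U ⊔ zpowers t, e8_of_klein_lt hU (sq_sup (four_of_klein hU).sq (sq_zpowers ht)
    (le_centralizer_iff.1 (zpowers_le.2 hc))) le_sup_left fun h' => h ⟨E, hE, hUE,
      hUE (h' (le_sup_right (a := U) (mem_zpowers t)))⟩, le_sup_right (a := U) (mem_zpowers t)⟩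

theorem big_of_conj (h : ∃ E, E8 E ∧ g * t * g⁻¹ ∈ E) : ∃ E, E8 E ∧ t ∈ E := by
  obtain ⟨E, hE, h⟩ := h
  exact ⟨_, hE.cj g⁻¹, mem_conj_iff.2 (by simpa using h)⟩

theorem exists_conj_mem_sylow (S : Sylow 2 G) (ht : t * t = 1) : ∃ g : G, g * t * g⁻¹ ∈ S := by
  obtain ⟨g, -, hle⟩ := (H3.sylowIn_top S).exists_conj_le
    (isPGroup_zpowers_of_pow (by rw [pow_two, ht])) le_top
  exact ⟨g, hle (conj_mem_conj g (mem_zpowers t))⟩

theorem exists_good_klein (h : ¬ PRankLE 2 2 G) (S : Sylow 2 G) : ∃ U E : Subgroup G,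
    IsKleinFour U ∧ E8 E ∧ U ≤ E ∧ E ≤ S ∧ (S : Subgroup G) ≤ normalizer (U : Set G) := by
  obtain ⟨E, hE⟩ := exists_e8_of_not_pRankLE h
  obtain ⟨g, -, hg⟩ := exists_e8_le_sylow (H1.isSylowIn_top S) hE le_top
  obtain ⟨U, hUS, hU, hn⟩ := H11.exists_normalized_klein_of_eight S.2 hg (hE.cj g).card (hE.cj g).sq
  obtain ⟨E', hE', h1, h2, -⟩ := (hE.cj g).exists_ge_klein hU (hg.trans hn)
  exact ⟨U, E', hU, hE', h1, h2.trans (sup_le hg hUS), hn⟩

theorem big_of_no_index_two (h : ¬ PRankLE 2 2 G) (hno : ∀ H : Subgroup G, H.index ≠ 2)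
    (t : G) (ht : t * t = 1) : ∃ E, E8 E ∧ t ∈ E := by
  obtain ⟨S⟩ : Nonempty (Sylow 2 G) := inferInstance
  obtain ⟨U, E, hU, hE, hUE, hES, hn⟩ := exists_good_klein h S
  have key : ∃ g : G, g * t * g⁻¹ ∈ centralizer (U : Set G) := by
    by_cases hc : (S : Subgroup G) ≤ centralizer (U : Set G)
    · obtain ⟨g, hg⟩ := exists_conj_mem_sylow S ht
      exact ⟨g, hc hg⟩
    · obtain ⟨g, hg⟩ := H11.thompson_transfer_sylow hno S
        (T := centralizer (U : Set G) ⊓ S) inf_le_right (by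
          rw [inf_relIndex_right]
          have h1 := H11.relIndex_centralizer_klein_le S.2 hU hn
          have h2 : (centralizer (U : Set G)).relIndex S ≠ 1 := fun e => hc (relIndex_eq_one.1 e)
          have h3 : (centralizer (U : Set G)).relIndex S ≠ 0 := index_ne_zero_of_finite
          omega) ht
      exact ⟨g, hg.1⟩
  obtain ⟨g, hg⟩ := key
  refine big_of_conj (big_of_centralizes hU hE hUE ?_ hg)
  calc g * t * g⁻¹ * (g * t * g⁻¹) = g * (t * t) * g⁻¹ := by group
    _ = 1 := by rw [ht]; group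

theorem big_of_connected (h : ¬ PRankLE 2 2 G) (S : Sylow 2 G)
    (hS : IsFourConnected (S : Subgroup G)) (t : G) (ht : t * t = 1) (ht1 : t ≠ 1) :
    ∃ E, E8 E ∧ t ∈ E := by
  obtain ⟨U, E, hU, hE, hUE, hES, hn⟩ := exists_good_klein h S
  obtain ⟨g, hg⟩ := exists_conj_mem_sylow S ht
  refine big_of_conj (g := g) ?_
  have hs : g * t * g⁻¹ * (g * t * g⁻¹) = 1 := by
    calc g * t * g⁻¹ * (g * t * g⁻¹) = g * (t * t) * g⁻¹ := by group
      _ = 1 := by rw [ht]; group
  have hs1 : g * t * g⁻¹ ≠ 1 := by simpa using ht1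
  generalize g * t * g⁻¹ = s at *
  obtain ⟨z, hz, hz2, hzc⟩ := exists_central_orderOf S.2 S.2 le_normalizer
    fun e => hs1 (by simpa [e] using show s ∈ (S : Subgroup G) from hg)
  by_cases e : s = z
  · exact big_of_centralizes hU hE hUE hs
      (e ▸ le_centralizer_singleton_iff.1 ((hUE.trans hES).trans hzc))
  have hA := H11.isKleinFour_closure (orderOf_eq_of_pow (by rw [pow_two, hs]) hs1) hz2 e
    (mem_centralizer_singleton_iff.1 (hzc hg))
  have hsA : s ∈ closure ({s, z} : Set G) := subset_closure (by simp)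
  have hAS : closure ({s, z} : Set G) ≤ S := by
    rw [closure_le]; rintro _ (rfl | rfl); exacts [hg, hz]
  have hc := conn4_of_le hS hA hU hAS (hUE.trans hES)
  generalize closure ({s, z} : Set G) = A at *
  have key : ∀ B, Conn4 B U → A = B → ∃ E, E8 E ∧ s ∈ E := by
    intro B hB
    induction hB using Relation.ReflTransGen.head_induction_on with
    | refl => rintro rfl; exact ⟨E, hE, hUE hsA⟩
    | @head B C hBC _ ih =>
      rintro rfl
      by_cases e : A = C
      · exact ih e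
      refine ⟨A ⊔ C, e8_of_klein_lt hA (sq_sup (four_of_klein hA).sq (four_of_klein hBC.2.1).sq
        fun a ha c hc => (hBC.2.2 a ha c hc).symm) le_sup_left fun h' => e ?_,
        le_sup_left (b := C) hsA⟩
      exact (eq_of_le_of_card_le (le_sup_right.trans h') (by
        rw [(four_of_klein hA).card, (four_of_klein hBC.2.1).card])).symm
  exact key A hc rfl

end Cfsg.Agent.H10
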